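import Groth.Agent.DevissLib.Filtration
import Groth.Agent.DevissLib.Induction
import Groth.Agent.DevissLib.Finite

/-!
# Bridges between coherent modules with isomorphic stalks
-/

set_option autoImplicit false

universe u

open CategoryTheory CategoryTheory.Limits AlgebraicGeometry TopologicalSpace Opposite

noncomputable section

namespace AmpleDescLib

open DevissLib

variable {X : Scheme.{u}}

/-- A coherent submodule through finitely many sections on an affine open. -/
theorem exists_sub_through_fin [IsNoetherian X] {M : X.Modules} (hM : Coh.IsCoh M) {U : X.Opens}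
    (_hU : IsAffineOpen U) {n : ℕ} (s : Fin n → Γ(M, U)) :
    ∃ (H : X.Modules) (i : H ⟶ M), Mono i ∧ Coh.IsCoh H ∧ (∀ j, ∃ t : Γ(H, U), i.app U t = s j) ∧
      ∀ (x : X) (hx : x ∈ U) (a : (St x).obj H),
        ∃ c : Fin n → X.presheaf.stalk x, ((St x).map i).hom a = ∑ j, c j • gm M x hx (s j) := by
  have : Coh.IsQCoh M := hM.1
  let σ : ULift.{u} (Fin n) → Γ(M, U) := fun j => s j.down
  have hcanon : QCohLib.LocSub.Canon (QCohLib.LocSub.span M U σ) U := by
    intro W a ha p hp hpU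
    obtain ⟨O, hO, hOU, hpO, c, hc⟩ := ha p ⟨hp, hpU⟩ hpU
    rw [QCohLib.map_map'] at hc
    exact ⟨O, hO.trans inf_le_left, hOU, hpO, c, hc⟩
  have hft : QCohLib.LocSub.FTBelow (QCohLib.LocSub.span M U σ) U := fun p hp =>
    ⟨U, le_rfl, hp, n, σ, fun i => QCohLib.LocSub.span_self σ i, fun W hWU a ha => ha⟩
  obtain ⟨S, hS, hagree⟩ := QCohLib.LocSub.exists_ftExtension
    (fun W O _ => TopologicalSpace.NoetherianSpace.isCompact _) U _ hcanon hft
  have hs : ∀ j, S.mem U (s j) := fun j => (hagree U le_rfl (s j)).mpr (QCohLib.LocSub.span_self σ ⟨j⟩)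
  refine ⟨S.toModules, S.ι, inferInstance,
    ⟨QCohLib.LocSub.isQCoh_toModules S hS, QCohLib.LocSub.isFT_toModules S hS⟩,
    fun j => ⟨S.lift (s j) (hs j), S.ι_lift (s j) (hs j)⟩, fun x hx a => ?_⟩
  obtain ⟨W, hxW, z, rfl⟩ := exists_gm_eq _ x a
  have hz : S.mem (W ⊓ U) (M.presheaf.map (homOfLE inf_le_left).op (S.ι.app W z)) :=
    S.res inf_le_left (S.ι_app_mem z)
  obtain ⟨O, hO, hOU, hxO, c, hc⟩ := (hagree (W ⊓ U) inf_le_right _).mp hz x ⟨hxW, hx⟩ hx
  refine ⟨fun j => X.presheaf.germ O x hxO (c ⟨j⟩), ?_⟩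
  rw [gm_app, ← gm_map M (inf_le_left : W ⊓ U ≤ W) x ⟨hxW, hx⟩, ← gm_map M hO x hxO, hc]
  have hsum : gm M x hxO (∑ i, c i • M.presheaf.map (homOfLE hOU).op (σ i)) =
      ∑ i, gm M x hxO (c i • M.presheaf.map (homOfLE hOU).op (σ i)) :=
    map_sum (M.presheaf.germ O x hxO).hom _ _
  refine hsum.trans ?_
  rw [← Equiv.sum_comp Equiv.ulift.symm]
  refine Finset.sum_congr rfl fun j _ => ?_
  rw [gm_smul, gm_map M hOU x hxO]
  rfl

/-- Coherent modules with isomorphic stalks at a point are joined by a coherent module mapping to both,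
with bijective stalk maps at the point. -/
theorem exists_bridge_equiv [IsNoetherian X] {G M : X.Modules} (hG : Coh.IsCoh G) (hM : Coh.IsCoh M) {η : X}
    (e : (St η).obj G ≃ₗ[X.presheaf.stalk η] (St η).obj M) :
    ∃ (H : X.Modules) (p₁ : H ⟶ G) (p₂ : H ⟶ M), Coh.IsCoh H ∧
      Function.Bijective ((St η).map p₁).hom ∧ Function.Bijective ((St η).map p₂).hom := by
  classical
  have : _root_.IsNoetherian (X.presheaf.stalk η) ((St η).obj G) := isNoetherian_stalk hG η
  obtain ⟨n, gen, hgen⟩ := Module.Finite.exists_fin (R := X.presheaf.stalk η) (M := (St η).obj G)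
  choose Wg hWg tg htg using fun j => exists_gm_eq G η (gen j)
  choose Wm hWm tm htm using fun j => exists_gm_eq M η (e (gen j))
  obtain ⟨U, hU, hηU, hUle⟩ := Opens.isBasis_iff_nbhd.mp X.isBasis_affineOpens
    (show η ∈ Finset.univ.inf (fun j => Wg j ⊓ Wm j) from
      (Finset.inf_induction (p := fun O : X.Opens => η ∈ O) trivial (fun a ha b hb => ⟨ha, hb⟩)
        fun j _ => ⟨hWg j, hWm j⟩))
  have hUg : ∀ j, U ≤ Wg j := fun j => hUle.trans ((Finset.inf_le (Finset.mem_univ j)).trans inf_le_left)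
  have hUm : ∀ j, U ≤ Wm j := fun j => hUle.trans ((Finset.inf_le (Finset.mem_univ j)).trans inf_le_right)
  let g : Fin n → Γ(G, U) := fun j => G.presheaf.map (homOfLE (hUg j)).op (tg j)
  let s : Fin n → Γ(M, U) := fun j => M.presheaf.map (homOfLE (hUm j)).op (tm j)
  have hgg : ∀ j, gm G η hηU (g j) = gen j := fun j => (gm_map G (hUg j) η hηU (tg j)).trans (htg j)
  have hss : ∀ j, gm M η hηU (s j) = e (gen j) := fun j => (gm_map M (hUm j) η hηU (tm j)).trans (htm j)
  let v : Fin n → Γ(G ⊞ M, U) := fun j =>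
    (biprod.inl : G ⟶ G ⊞ M).app U (g j) + (biprod.inr : M ⟶ G ⊞ M).app U (s j)
  have hv₁ : ∀ j, (biprod.fst : G ⊞ M ⟶ G).app U (v j) = g j := fun j => by
    rw [map_add]
    refine (congr_arg₂ (· + ·) (congr_arg (fun φ : G ⟶ G => φ.app U (g j)) biprod.inl_fst)
      (congr_arg (fun φ : M ⟶ G => φ.app U (s j)) biprod.inr_fst)).trans ?_
    exact add_zero _
  have hv₂ : ∀ j, (biprod.snd : G ⊞ M ⟶ M).app U (v j) = s j := fun j => by
    rw [map_add]
    refine (congr_arg₂ (· + ·) (congr_arg (fun φ : G ⟶ M => φ.app U (g j)) biprod.inl_snd)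
      (congr_arg (fun φ : M ⟶ M => φ.app U (s j)) biprod.inr_snd)).trans ?_
    exact zero_add _
  obtain ⟨H, i, hi, hH, ht, hst⟩ := exists_sub_through_fin (isCoh_biprod hG hM) hU v
  choose t ht using ht
  let p₁ := i ≫ (biprod.fst : G ⊞ M ⟶ G)
  let p₂ := i ≫ (biprod.snd : G ⊞ M ⟶ M)
  have hp₁ : ∀ j, ((St η).map p₁).hom (gm H η hηU (t j)) = gen j := fun j => by
    rw [gm_app, ← hgg]
    exact congr_arg _ ((congr_arg _ (ht j)).trans (hv₁ j))
  have hp₂ : ∀ j, ((St η).map p₂).hom (gm H η hηU (t j)) = e (gen j) := fun j => by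
    rw [gm_app, ← hss]
    exact congr_arg _ ((congr_arg _ (ht j)).trans (hv₂ j))
  have hi' : Function.Injective ((St η).map i).hom :=
    (ModuleCat.mono_iff_injective _).mp inferInstance
  have hgenH : ∀ a : (St η).obj H, ∃ c : Fin n → X.presheaf.stalk η, a = ∑ j, c j • gm H η hηU (t j) := fun a => by
    obtain ⟨c, hc⟩ := hst η hηU a
    refine ⟨c, hi' (hc.trans ?_)⟩
    rw [map_sum]
    refine Finset.sum_congr rfl fun j _ => ?_
    rw [map_smul, gm_app, ht]
  have hcomm : ∀ a : (St η).obj H, ((St η).map p₂).hom a = e (((St η).map p₁).hom a) := fun a => by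
    obtain ⟨c, rfl⟩ := hgenH a
    simp only [map_sum, map_smul, hp₁, hp₂]
  have hbij : Function.Bijective ((St η).map p₁).hom := by
    refine ⟨(injective_iff_map_eq_zero _).2 fun a ha => hi' ?_, fun b => ?_⟩
    · refine (biprod_ext η _ ?_ ?_).trans (map_zero _).symm
      · exact (congrArg (fun φ => φ.hom a) ((St η).map_comp i biprod.fst).symm).trans ha
      · refine (congrArg (fun φ => φ.hom a) ((St η).map_comp i biprod.snd).symm).trans ?_
        exact (hcomm a).trans (by rw [ha, map_zero])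
    · obtain ⟨c, hc⟩ := (Submodule.mem_span_range_iff_exists_fun _).1
        (show b ∈ Submodule.span (X.presheaf.stalk η) (Set.range gen) from hgen ▸ Submodule.mem_top)
      refine ⟨∑ j, c j • gm H η hηU (t j), ?_⟩
      simp only [map_sum, map_smul, hp₁]
      exact hc
  refine ⟨H, p₁, p₂, hH, hbij, ?_⟩
  rw [show ⇑((St η).map p₂).hom = ⇑e ∘ ⇑((St η).map p₁).hom from funext hcomm]
  exact e.bijective.comp hbij

end AmpleDescLib
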