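import Groth.Agent.AmpleDescLib.Bridge
import Groth.Agent.AmpleDevLib.Components
import Groth.Agent.DevissLib.AnnIdeal
import Groth.Agent.DevissLib.KilledImm
import Groth.Agent.IntMultLib.Cartier
import Groth.Agent.S4666
import Mathlib.LinearAlgebra.Dimension.Constructions

/-!
# Ampleness descends along finite surjective morphisms
-/

set_option autoImplicit false
set_option linter.style.haveILetI false
set_option backward.isDefEq.respectTransparency false
set_option maxHeartbeats 1000000

universe u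

open CategoryTheory CategoryTheory.Limits AlgebraicGeometry TopologicalSpace Opposite
open DevissLib
open AmpleDevLib (EvVanish)
open KFlatLib (pb)

noncomputable section

namespace AmpleDescLib

variable {X : Scheme.{u}}

theorem hom_eq_zero_of_affine {M N : X.Modules} (φ : M ⟶ N)
    (h : ∀ U : X.Opens, IsAffineOpen U → ∀ s : Γ(M, U), φ.app U s = 0) : φ = 0 := by
  ext U s
  show φ.app U s = 0
  refine TopCat.Presheaf.section_ext ((QCohLib.toAbF X).obj N : TopCat.Sheaf AddCommGrpCat _) U
    (φ.app U s) 0 fun p hp => ?_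
  obtain ⟨V, hV, hpV, hVU⟩ := Opens.isBasis_iff_nbhd.mp X.isBasis_affineOpens hp
  have h1 : N.presheaf.map (homOfLE hVU).op (φ.app U s) = 0 :=
    (QCohLib.app_map φ (homOfLE hVU) s).symm.trans (h V hV _)
  exact ((gm_map N hVU p hpV (φ.app U s)).symm.trans
    ((congrArg (gm N p hpV) h1).trans ((gm_zero N p hpV).trans (gm_zero N p hp).symm)) :)

theorem evVanish_summand {L M N : X.Modules} (r : M ⟶ N) (s : N ⟶ M) (h : r ≫ s = 𝟙 M)
    (hN : EvVanish L N) : EvVanish L M := by
  obtain ⟨n₀, hn⟩ := hN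
  refine ⟨n₀, fun n h' p hp => ?_⟩
  let T := ProjFormLib.tF (CohB1.tensorPow L n)
  have hNT : Subsingleton (Coh.HH X (T.obj N) p) := hn n h' p hp
  refine ⟨fun x y => ?_⟩
  have key : ∀ z : Coh.HH X (T.obj M) p,
      Sheaf.H.map ((QCohLib.toAbF X).map (T.map s)) p (Sheaf.H.map ((QCohLib.toAbF X).map (T.map r)) p z) = z :=
    fun z => by
      rw [← Sheaf.H.map_comp_apply, ← Functor.map_comp, ← Functor.map_comp, h, CategoryTheory.Functor.map_id,
        CategoryTheory.Functor.map_id, Sheaf.H.map_id_apply]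
  exact (key x).symm.trans ((congrArg _ (@Subsingleton.elim _ hNT _ _)).trans (key y))

/-- `n + 1` copies of a module. -/
def pw (J : X.Modules) : ℕ → X.Modules
  | 0 => J
  | n + 1 => J ⊞ pw J n

theorem isCoh_pw [IsLocallyNoetherian X] {J : X.Modules} (hJ : Coh.IsCoh J) : ∀ n, Coh.IsCoh (pw J n)
  | 0 => hJ
  | n + 1 => isCoh_biprod hJ (isCoh_pw hJ n)

theorem evVanish_of_pw {L J : X.Modules} : ∀ {n : ℕ}, EvVanish L (pw J n) → EvVanish L J
  | 0, h => h
  | _ + 1, h => evVanish_summand biprod.inl biprod.fst biprod.inl_fst h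

theorem stalk_biprod_equiv (A B : X.Modules) (x : X) :
    Nonempty ((St x).obj (A ⊞ B) ≃ₗ[X.presheaf.stalk x] ((St x).obj A × (St x).obj B)) := by
  refine ⟨LinearEquiv.ofBijective
    (((St x).map (biprod.fst : A ⊞ B ⟶ A)).hom.prod ((St x).map (biprod.snd : A ⊞ B ⟶ B)).hom)
    ⟨(injective_iff_map_eq_zero _).2 fun a ha => ?_, fun p => ?_⟩⟩
  · exact biprod_ext x a (congrArg Prod.fst ha) (congrArg Prod.snd ha)
  · refine ⟨((St x).map (biprod.inl : A ⟶ A ⊞ B)).hom p.1 + ((St x).map (biprod.inr : B ⟶ A ⊞ B)).hom p.2, ?_⟩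
    rw [map_add]
    refine Prod.ext ?_ ?_
    · show ((St x).map _).hom (((St x).map _).hom p.1) + ((St x).map _).hom (((St x).map _).hom p.2) = p.1
      rw [← LinearMap.comp_apply, ← LinearMap.comp_apply, ← ModuleCat.hom_comp, ← ModuleCat.hom_comp,
        ← Functor.map_comp, ← Functor.map_comp, biprod.inl_fst, biprod.inr_fst, CategoryTheory.Functor.map_id,
        Functor.map_zero]
      simp
    · show ((St x).map _).hom (((St x).map _).hom p.1) + ((St x).map _).hom (((St x).map _).hom p.2) = p.2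
      rw [← LinearMap.comp_apply, ← LinearMap.comp_apply, ← ModuleCat.hom_comp, ← ModuleCat.hom_comp,
        ← Functor.map_comp, ← Functor.map_comp, biprod.inl_snd, biprod.inr_snd, CategoryTheory.Functor.map_id,
        Functor.map_zero]
      simp

theorem stalk_pw {J : X.Modules} {x : X} (e : (St x).obj J ≃ₗ[X.presheaf.stalk x] X.presheaf.stalk x) :
    ∀ n : ℕ, Nonempty ((St x).obj (pw J n) ≃ₗ[X.presheaf.stalk x] (Fin (n + 1) → X.presheaf.stalk x))
  | 0 => ⟨e.trans (LinearEquiv.funUnique (Fin 1) (X.presheaf.stalk x) (X.presheaf.stalk x)).symm⟩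
  | n + 1 => by
    obtain ⟨b⟩ := stalk_biprod_equiv J (pw J n) x
    obtain ⟨c⟩ := stalk_pw e n
    exact ⟨b.trans ((e.prodCongr c).trans (Fin.consLinearEquiv (X.presheaf.stalk x) fun _ => X.presheaf.stalk x))⟩

/-- Twists of coherent modules supported in a closed subset on whose integral subschemes the module is
ample vanish eventually. -/
theorem evVanish_of_support {R : Type u} [CommRing R] [IsNoetherianRing R] (pX : X ⟶ Spec (CommRingCat.of R))
    [IsProper pX] {L : X.Modules} (hL : PicF.IsInvertible L)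
    (hsm : ∀ (Z : Scheme.{u}) (i : Z ⟶ X), IsClosedImmersion i → IsIntegral Z → Set.range i ≠ Set.univ →
      CohB1.IsAmple (pb i L))
    {M : X.Modules} (hM : Coh.IsCoh M) (hsupp : CohB1.support M ≠ Set.univ) : EvVanish L M := by
  haveI := hM.1
  let I := annIdeal M hM.2
  let i := I.subschemeι
  haveI : IsLocallyNoetherian X := LocallyOfFiniteType.isLocallyNoetherian pX
  haveI : IsProper (i ≫ pX) := inferInstance
  haveI : IsLocallyNoetherian I.subscheme := LocallyOfFiniteType.isLocallyNoetherian (i ≫ pX)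
  have hk : ClSub.KilledByIdeal i.ker M := by
    rw [Scheme.IdealSheafData.ker_subschemeι]
    exact killed_annIdeal M hM.2
  obtain ⟨G, hG, ⟨e⟩⟩ := exists_coh_of_killed i hM hk
  have hr : Set.range i = CohB1.support M := I.range_subschemeι.trans (support_annIdeal M hM.2)
  have hA : CohB1.IsAmple (pb i L) := by
    refine AmpleDevLib.isAmple_of_integral (i ≫ pX) (AmpleDevLib.isInvertible_pb i hL) fun Z j hj hZ => ?_
    haveI := hj
    refine AmpleDevLib.isAmple_of_iso (AmpleDevLib.isInvertible_pb (j ≫ i) hL)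
      (AmpleDevLib.isInvertible_pb j (AmpleDevLib.isInvertible_pb i hL)) ((Scheme.Modules.pullbackComp j i).app L).symm ?_
    refine hsm Z (j ≫ i) inferInstance hZ fun h => hsupp (Set.eq_univ_of_univ_subset ?_)
    rw [← h, ← hr]
    rintro _ ⟨z, rfl⟩
    exact ⟨j z, rfl⟩
  exact AmpleDevLib.evVanish_of_iso e.symm (AmpleDevLib.evVanish_push i (i ≫ pX) hL hA G hG)

/-- The vanishing of all twists of coherent modules on an integral scheme with a finite surjective cover
on which the module is ample. -/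
theorem evVanish_integral {R : Type u} [CommRing R] [IsNoetherianRing R] (pX : X ⟶ Spec (CommRingCat.of R))
    [IsProper pX] [IsIntegral X] {Y : Scheme.{u}} (g : Y ⟶ X) [IsFinite g] [Surjective g]
    {L : X.Modules} (hL : PicF.IsInvertible L) (hA : CohB1.IsAmple (pb g L))
    (hsm : ∀ (Z : Scheme.{u}) (i : Z ⟶ X), IsClosedImmersion i → IsIntegral Z → Set.range i ≠ Set.univ →
      CohB1.IsAmple (pb i L))
    {J : X.Modules} (hJ : Coh.IsCoh J) (κ : J ⟶ Coh.structureModule X) [Mono κ] : EvVanish L J := by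
  classical
  haveI : IsLocallyNoetherian X := LocallyOfFiniteType.isLocallyNoetherian pX
  haveI : CompactSpace X := QuasiCompact.compactSpace_of_compactSpace pX
  haveI : IsNoetherian X := {}
  haveI : IsProper (g ≫ pX) := inferInstance
  haveI : IsLocallyNoetherian Y := LocallyOfFiniteType.isLocallyNoetherian (g ≫ pX)
  let η : X := genericPoint X
  have hproper : ∀ {M : X.Modules}, η ∉ CohB1.support M → CohB1.support M ≠ Set.univ :=
    fun hη h => hη (h ▸ trivial)
  by_cases hηJ : η ∈ CohB1.support J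
  swap
  · exact evVanish_of_support pX hL hsm hJ (hproper hηJ)
  have hF : IsField (X.presheaf.stalk η) := Field.toIsField X.functionField
  letI : Field (X.presheaf.stalk η) := hF.toField
  let G := (Coh.push g).obj (Coh.structureModule Y)
  have hG : Coh.IsCoh G := QCohLib.isCoh_push_finite g _ (isCoh_structureModule Y)
  haveI := hG.1
  haveI := hJ.1
  haveI : Module.Finite (X.presheaf.stalk η) ((St η).obj G) := by
    haveI := isNoetherian_stalk hG η; infer_instance
  haveI : Module.Finite (X.presheaf.stalk η) ((St η).obj J) := by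
    haveI := isNoetherian_stalk hJ η; infer_instance
  obtain ⟨U, hU, hηU⟩ := QCohLib.exists_affine_nhd η
  -- the generic rank of the cover is positive
  haveI : Nontrivial ((St η).obj G) := by
    refine ⟨gm G η hηU (show Γ(G, U) from (1 : Γ(Y, g ⁻¹ᵁ U))), 0, fun h => ?_⟩
    obtain ⟨W, hηW, i₁, i₂, hW⟩ := TopCat.Presheaf.germ_eq G.presheaf η hηU hηU
      (show Γ(G, U) from (1 : Γ(Y, g ⁻¹ᵁ U))) 0 (h.trans (gm_zero G η hηU).symm)
    rw [map_zero] at hW
    obtain ⟨y, hy⟩ := g.surjective η
    have hyW : y ∈ g ⁻¹ᵁ W := by show g y ∈ W; rw [hy]; exact hηW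
    have h1 : (1 : Γ(Y, g ⁻¹ᵁ W)) = 0 := (map_one (Y.presheaf.map (homOfLE (g.preimage_mono i₁.le)).op).hom).symm.trans hW
    exact (one_ne_zero (α := Y.presheaf.stalk y))
      ((map_one (Y.presheaf.germ _ y hyW).hom).symm.trans ((congrArg _ h1).trans (map_zero _)))
  obtain ⟨r, hr⟩ := Nat.exists_eq_succ_of_ne_zero
    (Module.finrank_pos (R := X.presheaf.stalk η) (M := (St η).obj G)).ne'
  -- the stalk of the ideal is a line
  have hJ1 : Module.finrank (X.presheaf.stalk η) ((St η).obj J) = 1 := by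
    have hO : ∀ a : (St η).obj (Coh.structureModule X), ∃ c : X.presheaf.stalk η,
        c • gm (Coh.structureModule X) η hηU (1 : Γ(X, U)) = a := by
      intro a
      obtain ⟨W, hηW, z, rfl⟩ := exists_gm_eq _ η a
      refine ⟨X.presheaf.germ (W ⊓ U) η ⟨hηW, hηU⟩ (X.presheaf.map (homOfLE inf_le_left).op z), ?_⟩
      rw [← gm_map (Coh.structureModule X) (inf_le_right : W ⊓ U ≤ U) η ⟨hηW, hηU⟩, ← gm_smul,
        ← gm_map (Coh.structureModule X) (inf_le_left : W ⊓ U ≤ W) η ⟨hηW, hηU⟩ z]
      congr 1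
      exact (congrArg (fun t => X.presheaf.map (homOfLE inf_le_left).op z * t)
        (map_one (X.presheaf.map (homOfLE (inf_le_right : W ⊓ U ≤ U)).op).hom)).trans (mul_one _)
    have h1 : Module.finrank (X.presheaf.stalk η) ((St η).obj (Coh.structureModule X)) ≤ 1 :=
      finrank_le_one _ hO
    have hκ : Function.Injective ((St η).map κ).hom := (ModuleCat.mono_iff_injective _).mp inferInstance
    haveI : Module.Finite (X.presheaf.stalk η) ((St η).obj (Coh.structureModule X)) := by
      haveI := isNoetherian_stalk (isCoh_structureModule X) η; infer_instance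
    haveI : Nontrivial ((St η).obj J) := by
      obtain ⟨a, ha⟩ := (mem_support_iff_nonzero J η).mp hηJ
      exact ⟨a, 0, ha⟩
    exact le_antisymm ((LinearMap.finrank_le_finrank_of_injective hκ).trans h1) Module.finrank_pos
  obtain ⟨eJ⟩ := FiniteDimensional.nonempty_linearEquiv_of_finrank_eq (R := X.presheaf.stalk η)
    (M := (St η).obj J) (M' := X.presheaf.stalk η) (hJ1.trans (Module.finrank_self _).symm)
  obtain ⟨eM⟩ := stalk_pw eJ r
  obtain ⟨eG⟩ := FiniteDimensional.nonempty_linearEquiv_of_finrank_eq (R := X.presheaf.stalk η)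
    (M := (St η).obj G) (M' := Fin (r + 1) → X.presheaf.stalk η) (by rw [hr, Module.finrank_fin_fun])
  have hMc := isCoh_pw hJ r
  haveI := hMc.1
  obtain ⟨H, p₁, p₂, hH, hb₁, hb₂⟩ := exists_bridge_equiv hG hMc (eG.trans eM.symm)
  haveI := hH.1
  -- the piece of the cover inside the image
  let C := cokernel p₁
  have hC : Coh.IsCoh C := QCohLib.isCoh_cokernel p₁ hH.1 hG
  haveI := hC.1
  have hηC : η ∉ CohB1.support C := notMem_support_cokernel p₁ η hb₁.2
  let A := annIdeal C hC.2
  obtain ⟨a, haA, hau⟩ : ∃ a ∈ A.ideal ⟨U, hU⟩, IsUnit (X.presheaf.germ U η hηU a) := by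
    by_contra hcon
    push Not at hcon
    have hmem : η ∈ X.zeroLocus (U := U) (A.ideal ⟨U, hU⟩ : Set Γ(X, U)) := by
      rw [Scheme.mem_zeroLocus_iff]
      intro a ha hb
      exact hcon a ha ((X.mem_basicOpen a η hηU).mp hb)
    have h2 := (Set.ext_iff.mp (A.coe_support_inter ⟨U, hU⟩) η).mpr ⟨hmem, hηU⟩
    exact hηC (support_annIdeal C hC.2 ▸ h2.1)
  let K := A.comap g
  let Wm := (Coh.push g).obj (ClSub.idealMod K)
  let ιW : Wm ⟶ G := (Coh.push g).map (ClSub.idealModι K)
  have hIc : Coh.IsCoh (ClSub.idealMod K) :=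
    QCohLib.isCoh_kernel _ (isCoh_structureModule Y) (CurvLib.isCoh_quotMod K).1
  haveI := hIc.1
  have hWc : Coh.IsCoh Wm := QCohLib.isCoh_push_finite g _ hIc
  have hzero : ιW ≫ cokernel.π p₁ = 0 := by
    refine hom_eq_zero_of_affine _ fun V hV s => ?_
    have hval : (show Γ(Y, g ⁻¹ᵁ V) from (ClSub.idealModι K).app (g ⁻¹ᵁ V) s) ∈
        (A.ideal ⟨V, hV⟩).map (g.app V).hom := by
      have h0 : (ClSub.toSubscheme K).app (g ⁻¹ᵁ V) ((ClSub.idealModι K).app (g ⁻¹ᵁ V) s) = 0 :=
        congrArg (fun φ : ClSub.idealMod K ⟶ ClSub.quotMod K => φ.app (g ⁻¹ᵁ V) s)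
          (kernel.condition (ClSub.toSubscheme K))
      have h1 := (IntMultLib.toSubscheme_app_eq_zero_iff K ⟨g ⁻¹ᵁ V, hV.preimage g⟩ _).mp h0
      rw [Groth.Agent.S4666.ideal_comap_eq A g ⟨V, hV⟩ ⟨g ⁻¹ᵁ V, hV.preimage g⟩ le_rfl,
        Scheme.Hom.appLE_eq_app] at h1
      exact h1
    show (cokernel.π p₁).app V (show Γ(G, V) from (ClSub.idealModι K).app (g ⁻¹ᵁ V) s) = 0
    generalize (show Γ(Y, g ⁻¹ᵁ V) from (ClSub.idealModι K).app (g ⁻¹ᵁ V) s) = b at hval ⊢
    suffices h : ∀ c : Γ(Y, g ⁻¹ᵁ V), (cokernel.π p₁).app V (show Γ(G, V) from c * b) = 0 by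
      have h1 := h 1
      rwa [one_mul] at h1
    induction hval using Submodule.span_induction with
    | mem x hx =>
      obtain ⟨t, ht, rfl⟩ := hx
      intro c
      have e1 : (show Γ(G, V) from c * g.app V t) = t • (show Γ(G, V) from c) :=
        (mul_comm (c : Γ(Y, g ⁻¹ᵁ V)) (g.app V t)).trans (QCohLib.push_smul g (Coh.structureModule Y) t _).symm
      rw [e1, QCohLib.app_smul]
      exact Module.mem_annihilator.mp ht _
    | zero =>
      intro c
      rw [mul_zero]
      exact map_zero _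
    | add x y _ _ hx hy =>
      intro c
      rw [mul_add]
      exact (map_add _ _ _).trans (by rw [hx c, hy c, add_zero])
    | smul d x _ hx =>
      intro c
      rw [smul_eq_mul, ← mul_assoc]
      exact hx (c * d)
  let l : Wm ⟶ Abelian.image p₁ := kernel.lift _ ιW hzero
  have hl : l ≫ Abelian.image.ι p₁ = ιW := kernel.lift_ι _ _ _
  have hlsurj : Function.Surjective ((St η).map l).hom := by
    intro b
    have hinj : Function.Injective ((St η).map (Abelian.image.ι p₁)).hom :=
      (ModuleCat.mono_iff_injective _).mp inferInstance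
    obtain ⟨O, hηO, z, hz⟩ := exists_gm_eq G η (((St η).map (Abelian.image.ι p₁)).hom b)
    obtain ⟨V, hV, hηV, hVle⟩ := Opens.isBasis_iff_nbhd.mp X.isBasis_affineOpens
      (show η ∈ O ⊓ U from ⟨hηO, hηU⟩)
    have hVO : V ≤ O := hVle.trans inf_le_left
    have hVU : V ≤ U := hVle.trans inf_le_right
    let a' : Γ(X, V) := X.presheaf.map (homOfLE hVU).op a
    have ha' : a' ∈ A.ideal ⟨V, hV⟩ := A.ideal_le_comap_ideal (U := ⟨V, hV⟩) (V := ⟨U, hU⟩) hVU haA
    let z' : Γ(Y, g ⁻¹ᵁ V) := G.presheaf.map (homOfLE hVO).op z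
    obtain ⟨σ, hσ⟩ := IntMultLib.exists_section K ⟨g ⁻¹ᵁ V, hV.preimage g⟩ (a := g.app V a' * z') (by
      rw [Groth.Agent.S4666.ideal_comap_eq A g ⟨V, hV⟩ ⟨g ⁻¹ᵁ V, hV.preimage g⟩ le_rfl, Scheme.Hom.appLE_eq_app]
      exact Ideal.mul_mem_right _ _ (Ideal.mem_map_of_mem _ ha'))
    have hu : IsUnit (X.presheaf.germ V η hηV a') := by
      simp only [a']
      rw [TopCat.Presheaf.germ_res_apply]
      exact hau
    obtain ⟨u, hu⟩ := hu
    refine ⟨(↑u⁻¹ : X.presheaf.stalk η) • gm Wm η hηV σ, hinj ?_⟩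
    rw [← LinearMap.comp_apply, ← ModuleCat.hom_comp, ← Functor.map_comp, hl, map_smul, gm_app, ← hz]
    have e1 : ιW.app V σ = a' • (G.presheaf.map (homOfLE hVO).op z) :=
      hσ.trans (QCohLib.push_smul g (Coh.structureModule Y) a' _).symm
    rw [e1, gm_smul, gm_map, smul_smul, ← hu, Units.inv_mul, one_smul]
  have hcoh_im : Coh.IsCoh (Abelian.image p₁) := isCoh_image p₁ hH hG
  haveI := hcoh_im.1
  have hQ : EvVanish L (cokernel l) :=
    evVanish_of_support pX hL hsm (QCohLib.isCoh_cokernel l hWc.1 hcoh_im)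
      (hproper (notMem_support_cokernel l η hlsurj))
  haveI : Mono l := by
    haveI : Mono (ClSub.idealModι K) := inferInstanceAs (Mono (kernel.ι (ClSub.toSubscheme K)))
    haveI : Mono ιW := inferInstanceAs (Mono ((Scheme.Modules.pushforward g).map _))
    exact mono_of_mono_fac hl
  have hW : EvVanish L Wm := AmpleDevLib.evVanish_push g (g ≫ pX) hL hA _ hIc
  have hI₁ : EvVanish L (Abelian.image p₁) :=
    (AmpleDevLib.evVanish_two_of_three hL (S := ShortComplex.mk l (cokernel.π l) (cokernel.condition l))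
      { exact := ShortComplex.exact_of_g_is_cokernel _ (cokernelIsCokernel l)
        mono_f := ‹Mono l›
        epi_g := inferInstanceAs (Epi (cokernel.π l)) }).2 hW hQ
  have hK₁ : EvVanish L (kernel p₁) :=
    evVanish_of_support pX hL hsm (QCohLib.isCoh_kernel p₁ hH hG.1) (hproper (notMem_support_kernel p₁ η hb₁.1))
  have hHv : EvVanish L H := (AmpleDevLib.evVanish_two_of_three hL (kerImSeq_shortExact p₁)).2 hK₁ hI₁
  have hK₂ : EvVanish L (kernel p₂) :=
    evVanish_of_support pX hL hsm (QCohLib.isCoh_kernel p₂ hH hMc.1) (hproper (notMem_support_kernel p₂ η hb₂.1))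
  have hI₂ : EvVanish L (Abelian.image p₂) :=
    (AmpleDevLib.evVanish_two_of_three hL (kerImSeq_shortExact p₂)).1 hK₂ hHv
  have hC₂ : EvVanish L (cokernel p₂) :=
    evVanish_of_support pX hL hsm (QCohLib.isCoh_cokernel p₂ hH.1 hMc) (hproper (notMem_support_cokernel p₂ η hb₂.2))
  exact evVanish_of_pw ((AmpleDevLib.evVanish_two_of_three hL (imCokSeq_shortExact p₂)).2 hI₂ hC₂)

/-- **Ampleness descends along finite surjective morphisms** of schemes proper over a Noetherian ring. -/
theorem isAmple_of_isAmple_pullback {R : Type u} [CommRing R] [IsNoetherianRing R]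
    (pX : X ⟶ Spec (CommRingCat.of R)) [IsProper pX] {Y : Scheme.{u}} (g : Y ⟶ X) [IsFinite g] [Surjective g]
    {L : X.Modules} (hL : PicF.IsInvertible L) (hA : CohB1.IsAmple (pb g L)) : CohB1.IsAmple L := by
  haveI : IsLocallyNoetherian X := LocallyOfFiniteType.isLocallyNoetherian pX
  haveI : CompactSpace X := QuasiCompact.compactSpace_of_compactSpace pX
  haveI : IsNoetherian X := {}
  suffices h : ∀ (T : Closeds X) (Z : Scheme.{u}) (i : Z ⟶ X), IsClosedImmersion i → IsIntegral Z →
      Set.range i = (T : Set X) → CohB1.IsAmple (pb i L) from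
    AmpleDevLib.isAmple_of_integral pX hL fun Z i hi hZ =>
      h ⟨Set.range i, i.isClosedEmbedding.isClosed_range⟩ Z i hi hZ rfl
  intro T
  induction T using (wellFounded_lt (α := Closeds X)).induction with
  | h T ih =>
    intro Z i hi hZ hT
    haveI := hi
    haveI := hZ
    have hLi := AmpleDevLib.isInvertible_pb i hL
    haveI : IsProper (i ≫ pX) := inferInstance
    haveI : IsLocallyNoetherian Z := LocallyOfFiniteType.isLocallyNoetherian (i ≫ pX)
    haveI : CompactSpace Z := QuasiCompact.compactSpace_of_compactSpace (i ≫ pX)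
    haveI : IsNoetherian Z := {}
    have hAZ : CohB1.IsAmple (pb (pullback.snd g i) (pb i L)) := by
      have h1 := AmpleDevLib.isAmple_pb (pullback.fst g i) (AmpleDevLib.isInvertible_pb g hL) hA
      exact AmpleDevLib.isAmple_of_iso (AmpleDevLib.isInvertible_pb _ (AmpleDevLib.isInvertible_pb g hL))
        (AmpleDevLib.isInvertible_pb _ hLi)
        (((Scheme.Modules.pullbackComp (pullback.fst g i) g).app L) ≪≫
          ((Scheme.Modules.pullbackCongr pullback.condition).app L) ≪≫
          ((Scheme.Modules.pullbackComp (pullback.snd g i) i).app L).symm) h1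
    haveI : IsFinite (pullback.snd g i) := inferInstance
    haveI : Surjective (pullback.snd g i) := inferInstance
    haveI : IsProper (pullback.snd g i ≫ i ≫ pX) := inferInstance
    refine SerreVanLib.isAmple_of_vanishing _ hLi fun I ι hι hI => ?_
    have hIc : Coh.IsCoh I := QCohLib.isCoh_of_mono ι (isCoh_structureModule Z) hI
    obtain ⟨n₀, hn⟩ := evVanish_integral (i ≫ pX) (pullback.snd g i) hLi hAZ (fun W j hj hW hne => by
      haveI := hj
      refine AmpleDevLib.isAmple_of_iso (AmpleDevLib.isInvertible_pb (j ≫ i) hL)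
        (AmpleDevLib.isInvertible_pb j hLi) ((Scheme.Modules.pullbackComp j i).app L).symm ?_
      have hlt : (⟨Set.range (j ≫ i), (j ≫ i).isClosedEmbedding.isClosed_range⟩ : Closeds X) < T := by
        rw [← SetLike.coe_ssubset_coe]
        show Set.range (j ≫ i) ⊂ (T : Set X)
        rw [← hT, Scheme.Hom.comp_base, TopCat.coe_comp, Set.range_comp, ← Set.image_univ (f := i)]
        exact i.isClosedEmbedding.injective.image_strictMono (Set.ssubset_univ_iff.2 hne)
      exact ih _ hlt W (j ≫ i) inferInstance hW rfl) hIc ι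
    exact ⟨n₀, SerreVanLib.subsingleton_HH_of_iso (AmpleDevLib.tensComm _ _) 1
      (hn (n₀ + 1) (Nat.le_succ _) 1 one_pos)⟩

end AmpleDescLib
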